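import Groth.Agent.GalDual.TorsionCor
import Groth.Agent.EtFound.PushExact

/-! Cohomological dimension: `p`-primary torsion of arbitrary sheaves, and closed subgroups. -/

universe u

open CategoryTheory CategoryTheory.Limits AlgebraicGeometry Opposite CategoryTheory.Abelian

namespace Groth.Agent.GalDual

set_option backward.isDefEq.respectTransparency.types false

/-- Scalars pass to degree zero classes. -/
theorem nsmul_eq_comp {C : Type*} [Category C] [Abelian C] [HasExt C] {A B : C} {n : ℕ} (x : Ext A B n) (d : ℕ) :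
    d • x = x.comp (Ext.mk₀ (d • 𝟙 B)) (add_zero n) := by
  induction d with
  | zero => simp
  | succ d ih => rw [succ_nsmul, succ_nsmul, Ext.mk₀_add, Ext.comp_add, ← ih, Ext.comp_mk₀_id]

variable {X : Scheme.{u}}

theorem app_nsmul (G : EtCoh.Ab X) (d : ℕ) (U : X.Etale) (s : G.obj.obj (op U)) :
    ((d • 𝟙 G : G ⟶ G).hom.app (op U)).hom s = d • s := by
  induction d with
  | zero => rw [zero_smul, zero_smul]; rfl
  | succ d ih =>
    rw [succ_nsmul, succ_nsmul]
    show ((d • 𝟙 G : G ⟶ G).hom.app (op U)).hom s + s = _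
    rw [ih]

theorem isTorsion_of_nsmul_eq_zero (G : EtCoh.Ab X) (d : ℕ) (hd : 0 < d) (h : d • 𝟙 G = 0) : EtCoh.IsTorsion G := by
  intro U s x
  refine ⟨U, 𝟙 U, ⟨x, rfl⟩, isOfFinAddOrder_iff_nsmul_eq_zero.2 ⟨d, hd, ?_⟩⟩
  rw [← app_nsmul, h]
  rfl

theorem subsingleton_of_killed {k : Type u} [Field k] {p : ℕ} [Fact p.Prime] {n : ℕ}
    (hcd : ∀ (F : EtCoh.Ab (Spec (CommRingCat.of k))), EtCoh.IsTorsion F → ∀ q : ℕ, n < q →
        ∀ x : EtCoh.H (Spec (CommRingCat.of k)) F q, (∃ m : ℕ, p ^ m • x = 0) → x = 0)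
    (G : EtCoh.Ab (Spec (CommRingCat.of k))) (m : ℕ) (hG : p ^ m • 𝟙 G = 0) {q : ℕ} (hq : n < q)
    (x : EtCoh.H (Spec (CommRingCat.of k)) G q) : x = 0 :=
  hcd G (isTorsion_of_nsmul_eq_zero G _ (pow_pos (Fact.out : p.Prime).pos m) hG) q hq x
    ⟨m, by rw [nsmul_eq_comp, hG, Ext.mk₀_zero, Ext.comp_zero]⟩

theorem primary_vanish_succ {k : Type u} [Field k] {p : ℕ} [Fact p.Prime] {n : ℕ}
    (hcd : ∀ (F : EtCoh.Ab (Spec (CommRingCat.of k))), EtCoh.IsTorsion F → ∀ q : ℕ, n < q →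
        ∀ x : EtCoh.H (Spec (CommRingCat.of k)) F q, (∃ m : ℕ, p ^ m • x = 0) → x = 0)
    (F : EtCoh.Ab (Spec (CommRingCat.of k))) {q : ℕ} (hq : n + 1 < q)
    (x : EtCoh.H (Spec (CommRingCat.of k)) F q) {m : ℕ} (hx : p ^ m • x = 0) : x = 0 := by
  let f : F ⟶ F := p ^ m • 𝟙 F
  let π := cokernel.π (kernel.ι f)
  let g : cokernel (kernel.ι f) ⟶ F := cokernel.desc _ f (kernel.condition f)
  have : Mono g := inferInstanceAs (Mono (Abelian.factorThruCoimage f))
  let S₁ : ShortComplex (EtCoh.Ab (Spec (CommRingCat.of k))) :=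
    ShortComplex.mk (kernel.ι f) π (cokernel.condition _)
  have h₁ : S₁.ShortExact := { exact := ShortComplex.exact_of_g_is_cokernel _ (cokernelIsCokernel _) }
  let S₂ : ShortComplex (EtCoh.Ab (Spec (CommRingCat.of k))) :=
    ShortComplex.mk g (cokernel.π g) (cokernel.condition _)
  have h₂ : S₂.ShortExact := { exact := ShortComplex.exact_of_g_is_cokernel _ (cokernelIsCokernel _) }
  have hK : p ^ m • 𝟙 (kernel f) = 0 := by
    rw [← cancel_mono (kernel.ι f), Preadditive.nsmul_comp, Category.id_comp, zero_comp]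
    have h : kernel.ι f ≫ f = 0 := kernel.condition f
    rw [Preadditive.comp_nsmul, Category.comp_id] at h
    exact h
  have hg : π ≫ g = f := cokernel.π_desc _ _ _
  have hQ : p ^ m • 𝟙 (cokernel g) = 0 := by
    have h : f ≫ cokernel.π g = 0 :=
      (eq_whisker hg.symm _).trans ((Category.assoc _ _ _).trans (by rw [cokernel.condition, comp_zero]))
    rw [← cancel_epi (cokernel.π g), Preadditive.comp_nsmul, Category.comp_id, comp_zero]
    rw [Preadditive.nsmul_comp, Category.id_comp] at h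
    exact h
  let Z := EtCoh.const (Spec (CommRingCat.of k)) ℤ
  let x : Ext Z F q := x
  let y : Ext Z (cokernel (kernel.ι f)) q := x.comp (Ext.mk₀ π) (add_zero q)
  have hy : y.comp (Ext.mk₀ g) (add_zero q) = 0 := by
    rw [Ext.comp_assoc_of_third_deg_zero, Ext.mk₀_comp_mk₀, hg, ← nsmul_eq_comp]
    exact hx
  obtain ⟨q', rfl⟩ : ∃ q', q = q' + 1 := ⟨q - 1, by omega⟩
  obtain ⟨z, hz⟩ := Ext.covariant_sequence_exact₁ Z h₂ y hy rfl
  have hy0 : y = 0 := by
    rw [← hz, show z = 0 from subsingleton_of_killed hcd (cokernel g) m hQ (by omega) z]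
    exact Ext.zero_comp _ _ _ _ rfl
  obtain ⟨w, hw⟩ := Ext.covariant_sequence_exact₂ Z h₁ x hy0
  rw [show w = 0 from subsingleton_of_killed hcd (kernel f) m hK (by omega) w, Ext.zero_comp] at hw
  exact hw.symm

theorem isTorsion_exists_global {Y : Scheme.{u}} {G : EtCoh.Ab Y} (hG : EtCoh.IsTorsion G) (U : Y.Etale)
    [CompactSpace U.left] (s : G.obj.obj (op U)) : IsOfFinAddOrder s := by
  classical
  choose V g hv hfin using fun x : U.left => hG U s x
  have : ∀ x, AlgebraicGeometry.Etale (g x).left := fun x => EtFound.etale_left (g x)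
  let O : U.left → Set U.left := fun x => Set.range (g x).left.base
  have hO : ∀ x, IsOpen (O x) := fun x => (g x).left.isOpenMap.isOpen_range
  obtain ⟨t, ht⟩ := isCompact_univ.elim_finite_subcover O hO (fun x _ => by
    obtain ⟨v, hv⟩ := hv x
    exact Set.mem_iUnion.2 ⟨x, v, hv⟩)
  choose d hd hd0 using fun x => isOfFinAddOrder_iff_nsmul_eq_zero.1 (hfin x)
  let D := ∏ x ∈ t, d x
  refine isOfFinAddOrder_iff_nsmul_eq_zero.2 ⟨D, Finset.prod_pos fun x _ => hd x, ?_⟩
  have hF : Presieve.IsSheaf Y.smallEtaleTopology (G.obj ⋙ forget AddCommGrpCat.{u + 1}) :=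
    (isSheaf_iff_isSheaf_of_type _ _).1
      ((Presheaf.isSheaf_iff_isSheaf_forget _ _ (forget AddCommGrpCat.{u + 1})).1 G.property)
  let R : Sieve U :=
    { arrows := fun W f => (G.obj.map f.op).hom (D • s) = 0
      downward_closed := fun {W W'} f hf h => by
        rw [op_comp, Functor.map_comp]
        show (G.obj.map h.op).hom ((G.obj.map f.op).hom (D • s)) = 0
        rw [hf, map_zero] }
  have hR : R ∈ Y.smallEtaleTopology U := by
    rw [EtFound.mem_topology_iff]
    intro z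
    obtain ⟨x, hx, v, hv⟩ : ∃ x, x ∈ t ∧ z ∈ O x := by
      simpa using ht (Set.mem_univ z)
    refine ⟨V x, g x, v, ?_, hv⟩
    show (G.obj.map (g x).op).hom (D • s) = 0
    obtain ⟨c, hc⟩ := Finset.dvd_prod_of_mem d hx
    rw [map_nsmul, show D = d x * c from hc, mul_nsmul, hd0 x, nsmul_zero]
  exact (hF.isSeparated _ hR).ext fun W f hf => Eq.trans hf (map_zero (G.obj.map f.op).hom).symm

theorem isTorsion_push {Y X : Scheme.{u}} (π : Y ⟶ X) [QuasiCompact π] {G : EtCoh.Ab Y}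
    (hG : EtCoh.IsTorsion G) : EtCoh.IsTorsion ((EtCoh.push π).obj G) := by
  intro U s x
  obtain ⟨A, hA, hx, -⟩ := exists_isAffineOpen_mem_and_subset (U := ⊤) (x := x) (by trivial)
  have : AlgebraicGeometry.Etale U.hom := U.prop
  let V : X.Etale := Scheme.Etale.mk (A.ι ≫ U.hom)
  let g : V ⟶ U := MorphismProperty.Over.homMk A.ι rfl
  refine ⟨V, g, ⟨⟨x, hx⟩, rfl⟩, ?_⟩
  have : IsAffine V.left := hA
  have : QuasiCompact (pullback.fst V.hom π) := MorphismProperty.pullback_fst _ _ inferInstance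
  have : CompactSpace ((EtCoh.bc π).obj V).left :=
    @QuasiCompact.compactSpace_of_compactSpace _ _ (pullback.fst V.hom π) this (inferInstance : CompactSpace V.left)
  exact isTorsion_exists_global hG ((EtCoh.bc π).obj V) _

theorem cd_of_integral (k K : Type u) [Field k] [Field K] [Algebra k K] [Algebra.IsSeparable k K] (p : ℕ) (n : ℕ)
    (hcd : ∀ (F : EtCoh.Ab (Spec (CommRingCat.of k))), EtCoh.IsTorsion F → ∀ q : ℕ, n < q →
        ∀ x : EtCoh.H (Spec (CommRingCat.of k)) F q, (∃ m : ℕ, p ^ m • x = 0) → x = 0)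
    (F : EtCoh.Ab (Spec (CommRingCat.of K))) (hF : EtCoh.IsTorsion F) (q : ℕ) (hq : n < q)
    (x : EtCoh.H (Spec (CommRingCat.of K)) F q) (hx : ∃ m : ℕ, p ^ m • x = 0) : x = 0 := by
  let π := fieldMap k K
  have : IsIntegralHom π := IsIntegralHom.SpecMap_iff.2 (algebraMap_isIntegral_iff.2 inferInstance)
  have := EtFound.push_preservesFiniteColimits π
  have : PreservesFiniteLimits (EtCoh.push π) := inferInstance
  have := EtFound.pull_preservesFiniteLimits π
  have : (EtCoh.pull π).PreservesMonomorphisms := inferInstance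
  obtain ⟨m, hm⟩ := hx
  let Z := EtCoh.const (Spec (CommRingCat.of k)) ℤ
  let e := EtCore.pullConst π ℤ
  let x : Ext (EtCoh.const (Spec (CommRingCat.of K)) ℤ) F q := x
  let φ := EtMVLib.adjExtMap (EtCoh.pullPushAdj π) Z F q
  let x' : Ext ((EtCoh.pull π).obj Z) F q := (Ext.mk₀ e.hom).comp x (zero_add q)
  have hx' : p ^ m • x' = 0 := by
    have h := map_nsmul (AddMonoidHom.mk' (fun z : Ext (EtCoh.const (Spec (CommRingCat.of K)) ℤ) F q =>
      (Ext.mk₀ e.hom).comp z (zero_add q)) fun _ _ => Ext.comp_add _ _ _ _) (p ^ m) x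
    exact h.symm.trans ((congrArg (fun z => (Ext.mk₀ e.hom).comp z (zero_add q)) hm).trans
      (Ext.comp_zero _ _ _ _ (zero_add q)))
  have h0 : φ x' = 0 := hcd _ (isTorsion_push π hF) q hq (φ x') ⟨m, by rw [← map_nsmul, hx', map_zero]⟩
  have h1 : x' = 0 := (map_eq_zero_iff φ (EtMVLib.adjExtMap_bijective (EtCoh.pullPushAdj π) Z F q).1).1 h0
  have h2 := congrArg (fun z => (Ext.mk₀ e.inv).comp z (zero_add q)) h1
  rw [Ext.mk₀_comp_mk₀_assoc, Iso.inv_hom_id, Ext.mk₀_id_comp, Ext.comp_zero] at h2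
  exact h2

end Groth.Agent.GalDual
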