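import Groth.Agent.GalDual.FieldTransfer
import Mathlib.FieldTheory.Galois.Basic
import Mathlib.FieldTheory.IsAlgClosed.AlgebraicClosure

/-! Cohomology classes of a field die on finite separable extensions and are killed by their degree. -/

universe u

open CategoryTheory CategoryTheory.Limits AlgebraicGeometry Opposite CategoryTheory.Abelian

namespace Groth.Agent.GalDual

set_option backward.isDefEq.respectTransparency.types false

variable (K : Type u) [Field K]

instance jcont_fieldMap (L : Type u) [Field L] [Algebra K L] [FiniteDimensional K L]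
    [Algebra.IsSeparable K L] : EtShriek.JCont (fieldMap K L) := jcont _

/-- `ξ` dies on `L`. -/
def Dies (L : Type u) [Field L] [Algebra K L] [FiniteDimensional K L] [Algebra.IsSeparable K L]
    {F : EtCoh.Ab (Spec (CommRingCat.of K))} {n : ℕ} (ξ : EtCoh.H (Spec (CommRingCat.of K)) F n) : Prop :=
  (Ext.mk₀ (repZTo (fieldMap K L))).comp ξ (zero_add n) = 0

variable {K}
variable {F : EtCoh.Ab (Spec (CommRingCat.of K))} {n : ℕ}

theorem dies_iff_Hpull (L : Type u) [Field L] [Algebra K L] [FiniteDimensional K L]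
    [Algebra.IsSeparable K L] [PreservesFiniteLimits (EtCoh.pull (fieldMap K L))]
    (ξ : EtCoh.H (Spec (CommRingCat.of K)) F n) : Dies K L ξ ↔ EtCore.Hpull (fieldMap K L) F n ξ = 0 :=
  (Hpull_eq_zero_iff (fieldMap K L) F n ξ).symm

theorem Dies.of_algHom {L M : Type u} [Field L] [Algebra K L] [FiniteDimensional K L] [Algebra.IsSeparable K L]
    [Field M] [Algebra K M] [FiniteDimensional K M] [Algebra.IsSeparable K M] (τ : L →ₐ[K] M)
    {ξ : EtCoh.H (Spec (CommRingCat.of K)) F n} (h : Dies K L ξ) : Dies K M ξ := by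
  unfold Dies at h ⊢
  rw [← repMap_repZTo τ, ← Ext.mk₀_comp_mk₀_assoc, h]
  exact Ext.comp_zero _ _ _ _ (zero_add n)

theorem Dies.eq_zero {ξ : EtCoh.H (Spec (CommRingCat.of K)) F n} (h : Dies K K ξ) : ξ = 0 := by
  let j := fieldMap K K
  let g : EtCoh.top (Spec (CommRingCat.of K)) ⟶ objU j :=
    MorphismProperty.Over.homMk (𝟙 (Spec (CommRingCat.of K))) (by
      show 𝟙 _ ≫ 𝟙 _ ≫ Spec.map (CommRingCat.ofHom (algebraMap K K)) = 𝟙 _
      rw [Category.id_comp, Category.id_comp, Algebra.algebraMap_self]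
      exact Spec.map_id _)
  let s : EtCoh.const (Spec (CommRingCat.of K)) ℤ ⟶ repZ j :=
    ((EtCore.constAdj _).homEquiv _ _).symm ((AddCommGrpCat.uliftZMultiplesAddEquiv _).symm
      (((repZ j).obj.map g.op).hom (univSec j)))
  have hs : s ≫ repZTo j = 𝟙 _ := by
    apply ((EtCore.constAdj _).homEquiv _ _).injective
    apply (AddCommGrpCat.uliftZMultiplesAddEquiv _).injective
    erw [(EtCore.constAdj _).homEquiv_naturality_right, Equiv.apply_symm_apply]
    show ((repZTo j).hom.app (op (EtCoh.top _))).hom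
      ((AddCommGrpCat.uliftZMultiplesAddEquiv _) ((AddCommGrpCat.uliftZMultiplesAddEquiv _).symm
      (((repZ j).obj.map g.op).hom (univSec j)))) = _
    rw [AddEquiv.apply_symm_apply]
    refine (NatTrans.naturality_apply (repZTo j).hom g.op _).trans
      ((congrArg _ (repZTo_univSec _)).trans ?_)
    refine (map_oneSec g).trans ?_
    show _ = (((EtCore.constAdj (Spec (CommRingCat.of K))).homEquiv (AddCommGrpCat.of (ULift.{u + 1} ℤ)) _)
      (𝟙 (EtCoh.const (Spec (CommRingCat.of K)) ℤ))).hom (ULift.up (1 : ℤ))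
    rw [Adjunction.homEquiv_unit, oneSec, (EtCore.topIsTerminal _).hom_ext
      ((EtCore.topIsTerminal _).from (EtCoh.top _)) (𝟙 _), op_id, CategoryTheory.Functor.map_id]
    simp
  have h2 := congrArg (fun z => (Ext.mk₀ s).comp z (zero_add n)) h
  rw [Ext.mk₀_comp_mk₀_assoc, hs, Ext.mk₀_id_comp, Ext.comp_zero] at h2
  exact h2

theorem exists_trace (E L : Type u) [Field E] [Algebra K E] [FiniteDimensional K E] [Algebra.IsSeparable K E]
    [Field L] [Algebra K L] [FiniteDimensional K L] [Algebra.IsSeparable K L]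
    [Algebra E L] [IsScalarTower K E L] :
    ∃ t : repZ (fieldMap K E) ⟶ repZ (fieldMap K L),
      t ≫ repZTo (fieldMap K L) = Module.finrank E L • repZTo (fieldMap K E) := by
  have : FiniteDimensional E L := FiniteDimensional.right K E L
  have : Algebra.IsSeparable E L := Algebra.isSeparable_tower_top_of_isSeparable K E L
  let M := IntermediateField.normalClosure E L (AlgebraicClosure L)
  have : FiniteDimensional K M := FiniteDimensional.trans K E M
  have : Algebra.IsSeparable E M := (le_separableClosure_iff _ _ _).1 (by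
    refine iSup_le fun f => ?_
    rintro _ ⟨x, rfl⟩
    exact mem_separableClosure_iff.2 (IsSeparable.map f (RingHom.injective f.toRingHom) (Algebra.IsSeparable.isSeparable E x))
    )
  have : Algebra.IsSeparable K M := Algebra.IsSeparable.trans K E M
  have ι : L →ₐ[E] M := (IsScalarTower.toAlgHom E L (AlgebraicClosure L)).codRestrict M.toSubalgebra
    fun x => AlgHom.fieldRange_le_normalClosure (IsScalarTower.toAlgHom E L (AlgebraicClosure L)) ⟨x, rfl⟩
  obtain ⟨t, ht⟩ := exists_trace_sec (K := K) (L := L) (M := M) (E := E) inferInstance ι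
  refine ⟨(secOf (fieldMap K E) _).symm t, ?_⟩
  apply hom_ext_sec
  rw [secOf_comp, Equiv.apply_symm_apply, ht, ← secOf_repZTo, secOf_eq_app, secOf_eq_app]
  induction Module.finrank E L with
  | zero => rw [zero_smul, zero_smul]; rfl
  | succ d ih => rw [succ_nsmul, succ_nsmul, ih]; rfl

theorem Dies.nsmul (E L : Type u) [Field E] [Algebra K E] [FiniteDimensional K E] [Algebra.IsSeparable K E]
    [Field L] [Algebra K L] [FiniteDimensional K L] [Algebra.IsSeparable K L]
    [Algebra E L] [IsScalarTower K E L] {ξ : EtCoh.H (Spec (CommRingCat.of K)) F n} (h : Dies K L ξ) :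
    Dies K E (Module.finrank E L • ξ) := by
  obtain ⟨t, ht⟩ := exists_trace (K := K) E L
  have h2 := congrArg (fun z => (Ext.mk₀ t).comp z (zero_add n)) h
  rw [Ext.mk₀_comp_mk₀_assoc, ht, Ext.comp_zero] at h2
  unfold Dies
  rw [← h2]
  induction Module.finrank E L with
  | zero => simp
  | succ d ih => rw [succ_nsmul, succ_nsmul, Ext.comp_add, ih, Ext.mk₀_add, Ext.add_comp]

theorem Dies.finrank_nsmul (L : Type u) [Field L] [Algebra K L] [FiniteDimensional K L]
    [Algebra.IsSeparable K L] {ξ : EtCoh.H (Spec (CommRingCat.of K)) F n} (h : Dies K L ξ) :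
    Module.finrank K L • ξ = 0 :=
  (h.nsmul K L).eq_zero

theorem Dies.nsmul_eq_zero (L : Type u) [Field L] [Algebra K L] [FiniteDimensional K L]
    [Algebra.IsSeparable K L] {ξ : EtCoh.H (Spec (CommRingCat.of K)) F n} (m : ℕ) (h : Dies K L ξ) :
    Dies K L (m • ξ) := by
  unfold Dies at h ⊢
  induction m with
  | zero => simp
  | succ d ih => rw [succ_nsmul, Ext.comp_add, ih, h, add_zero]

/-- A point of an etale scheme over a field gives a finite separable extension with a point. -/
theorem exists_field_point {V : (Spec (CommRingCat.of K)).Etale} (v : V.left) :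
    ∃ (L : Type u) (_ : Field L) (_ : Algebra K L) (_ : FiniteDimensional K L) (_ : Algebra.IsSeparable K L),
      Nonempty (objU (fieldMap K L) ⟶ V) := by
  obtain ⟨A, hA, hv, -⟩ := exists_isAffineOpen_mem_and_subset (U := ⊤) (x := v) (by trivial)
  let j := hA.fromSpec ≫ V.hom
  obtain ⟨φ, hφ⟩ : ∃ φ, Spec.map φ = j := ⟨Spec.preimage j, Spec.map_preimage j⟩
  let _ : Algebra K Γ(V.left, A) := φ.hom.toAlgebra
  have : AlgebraicGeometry.Etale V.hom := V.prop
  have hj : AlgebraicGeometry.Etale (Spec.map φ) := hφ ▸ (inferInstanceAs (AlgebraicGeometry.Etale (hA.fromSpec ≫ V.hom)))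
  have : Algebra.Etale K Γ(V.left, A) := by
    rw [← RingHom.etale_algebraMap]
    exact (HasRingHomProperty.Spec_iff (P := @AlgebraicGeometry.Etale)).1 hj
  obtain ⟨I, hI, Ai, _, _, e, he⟩ := (Algebra.Etale.iff_exists_algEquiv_prod (K := K) (A := Γ(V.left, A))).1 this
  have : Nonempty I := by
    by_contra hne
    rw [not_nonempty_iff] at hne
    have : Subsingleton Γ(V.left, A) := e.toEquiv.subsingleton
    have : IsEmpty ↥(Spec Γ(V.left, A)) := inferInstanceAs (IsEmpty (PrimeSpectrum Γ(V.left, A)))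
    obtain ⟨x, hx⟩ : v ∈ Set.range hA.fromSpec.base := by rw [hA.range_fromSpec]; exact hv
    exact (IsEmpty.false x)
  obtain ⟨i⟩ := this
  refine ⟨Ai i, inferInstance, inferInstance, (he i).1, (he i).2, ⟨MorphismProperty.Over.homMk
    (Spec.map (CommRingCat.ofHom ((Pi.evalAlgHom K Ai i).comp e.toAlgHom).toRingHom) ≫ hA.fromSpec) ?_⟩⟩
  show (_ ≫ hA.fromSpec) ≫ V.hom = 𝟙 _ ≫ fieldMap K (Ai i)
  rw [Category.assoc, show hA.fromSpec ≫ V.hom = Spec.map φ from hφ.symm, Category.id_comp, fieldMap, ← Spec.map_comp]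
  congr 1
  ext x
  exact AlgHom.commutes ((Pi.evalAlgHom K Ai i).comp e.toAlgHom) x

/-- Every class of positive degree dies on a finite separable extension. -/
theorem exists_dies (ξ : EtCoh.H (Spec (CommRingCat.of K)) F (n + 1)) :
    ∃ (L : Type u) (_ : Field L) (_ : Algebra K L) (_ : FiniteDimensional K L) (_ : Algebra.IsSeparable K L),
      Dies K L ξ := by
  induction n generalizing F with
  | zero =>
    obtain ⟨y, hy⟩ := EtMVLib.exists_eq_comp_extClass ξ
    obtain ⟨φ, rfl⟩ := (Ext.mk₀_bijective _ _).2 y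
    let S := EtMVLib.injSES F
    have hS := EtMVLib.injSES_shortExact F
    have : Epi S.g := hS.epi_g
    have : Sheaf.IsLocallySurjective S.g := (Sheaf.isLocallySurjective_iff_epi' (A := AddCommGrpCat.{u + 1}) _).2 inferInstance
    let c : S.X₃.obj.obj (op (EtCoh.top (Spec (CommRingCat.of K)))) :=
      AddCommGrpCat.uliftZMultiplesAddEquiv _ ((EtCore.constAdj _).homEquiv _ _ φ)
    have hcov := Presheaf.imageSieve_mem (Spec (CommRingCat.of K)).smallEtaleTopology S.g.hom (U := op (EtCoh.top _)) c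
    rw [EtFound.mem_topology_iff] at hcov
    obtain ⟨V, f, v, ⟨x, hx⟩, -⟩ := hcov (default : Spec (CommRingCat.of K))
    obtain ⟨L, _, _, _, _, ⟨g⟩⟩ := exists_field_point v
    refine ⟨L, inferInstance, inferInstance, inferInstance, inferInstance, ?_⟩
    have hlift : repZTo (fieldMap K L) ≫ φ =
        (secOf (fieldMap K L) _).symm ((S.X₂.obj.map g.op).hom x) ≫ S.g := by
      apply hom_ext_sec
      rw [secOf_comp (fieldMap K L) (repZTo _) φ, secOf_comp (fieldMap K L) _ S.g, Equiv.apply_symm_apply,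
        secOf_repZTo]
      refine Eq.trans ?_ (NatTrans.naturality_apply S.g.hom g.op x).symm
      refine Eq.trans ?_ (congrArg (S.X₃.obj.map g.op).hom hx.symm)
      refine (NatTrans.naturality_apply φ.hom
        ((EtCore.topIsTerminal _).from (objU (fieldMap K L))).op _).trans ?_
      rw [(EtCore.topIsTerminal _).hom_ext ((EtCore.topIsTerminal _).from (objU (fieldMap K L))) (g ≫ f),
        op_comp, Functor.map_comp]
      refine congrArg (fun t => (S.X₃.obj.map g.op).hom ((S.X₃.obj.map f.op).hom t)) ?_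
      show _ = (((EtCore.constAdj _).homEquiv _ _) φ).hom (ULift.up (1 : ℤ))
      rw [Adjunction.homEquiv_unit]
      rfl
    unfold Dies
    rw [← hy, ← Ext.comp_assoc_of_second_deg_zero, Ext.mk₀_comp_mk₀, hlift, ← Ext.mk₀_comp_mk₀,
      Ext.comp_assoc_of_second_deg_zero, hS.comp_extClass, Ext.comp_zero]
  | succ n ih =>
    obtain ⟨y, rfl⟩ := EtMVLib.exists_eq_comp_extClass ξ
    obtain ⟨L, _, _, _, _, hL⟩ := ih y
    refine ⟨L, inferInstance, inferInstance, inferInstance, inferInstance, ?_⟩
    unfold Dies at hL ⊢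
    rw [← Ext.comp_assoc (Ext.mk₀ (repZTo (fieldMap K L))) y _ (zero_add _) rfl (by simp), hL, Ext.zero_comp]

/-- Positive degree cohomology of a field is torsion. -/
theorem exists_pos_nsmul_eq_zero (hn : 0 < n) (ξ : EtCoh.H (Spec (CommRingCat.of K)) F n) :
    ∃ d : ℕ, 0 < d ∧ d • ξ = 0 := by
  obtain ⟨m, rfl⟩ : ∃ m, n = m + 1 := ⟨n - 1, by omega⟩
  obtain ⟨L, _, _, _, _, h⟩ := exists_dies ξ
  exact ⟨Module.finrank K L, Module.finrank_pos, h.finrank_nsmul L⟩

end Groth.Agent.GalDual
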