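import Groth.Agent.EtMVLib.Abstract
import Groth.Agent.EtMVLib.HpullApply
import Groth.Agent.EtMVLib.PullSec
import Groth.Agent.EtFound.JContGen
import Groth.Agent.EtFound.ExtZeroExact
import Groth.Agent.EtFound.PullStalk
import Groth.Agent.EtFound.Stalk
import Mathlib.FieldTheory.Normal.Closure
import Mathlib.FieldTheory.PrimitiveElement
import Mathlib.RingTheory.Etale.Field
import Mathlib.Algebra.Category.Grp.ForgetCorepresentable

/-! Classes killed by a finite separable extension are killed by its degree. -/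

universe u

open CategoryTheory CategoryTheory.Limits AlgebraicGeometry Opposite CategoryTheory.Abelian

namespace Groth.Agent.GalDual

set_option backward.isDefEq.respectTransparency.types false

section Etale

variable {U X : Scheme.{u}} (j : U ⟶ X) [hj : AlgebraicGeometry.Etale j]

/-- the etale site of an etale scheme, composed -/
theorem jcont : EtShriek.JCont j := EtFound.jCont j

/-- `compEtale ⊣ bc` -/
noncomputable def compBcAdj : EtShriek.compEtale j ⊣ EtCoh.bc j :=
  MorphismProperty.Over.mapPullbackAdj EtCoh.etaleMP ⊤ j hj trivial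

variable [EtShriek.JCont j]

/-- restriction is the inverse image -/
noncomputable def restrPull : EtShriek.restrAlong j ≅ EtCoh.pull j :=
  Adjunction.leftAdjointUniq
    ((compBcAdj j).sheafPushforwardContinuous (E := AddCommGrpCat.{u + 1})
      U.smallEtaleTopology X.smallEtaleTopology)
    (EtCoh.pullPushAdj j)

/-- `j_! ⊣ j^{-1}` -/
noncomputable def shrAdj : EtShriek.extZero j ⊣ EtCoh.pull j :=
  (EtShriek.extZeroAdj j).ofNatIsoRight (restrPull j)

/-- `j_! ℤ` -/
noncomputable abbrev repZ : EtCoh.Ab X := (EtShriek.extZero j).obj (EtCoh.const U ℤ)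

/-- `j_! ℤ ⟶ ℤ` -/
noncomputable def repZTo : repZ j ⟶ EtCoh.const X ℤ :=
  ((shrAdj j).homEquiv _ _).symm (EtCore.pullConst j ℤ).inv

/-- `U` over `X` -/
noncomputable abbrev objU : X.Etale := (EtShriek.compEtale j).obj (EtCoh.top U)

/-- morphisms out of `j_! ℤ` are the sections over `U` -/
noncomputable def secOf (G : EtCoh.Ab X) : (repZ j ⟶ G) ≃ G.obj.obj (op (objU j)) :=
  ((EtShriek.extZeroAdj j).homEquiv _ _).trans
    (((EtCore.constAdj U).homEquiv _ _).trans
      (AddCommGrpCat.uliftZMultiplesAddEquiv _).toEquiv)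

theorem secOf_comp {G G' : EtCoh.Ab X} (φ : repZ j ⟶ G) (g : G ⟶ G') :
    secOf j G' (φ ≫ g) = (g.hom.app (op (objU j))).hom (secOf j G φ) := by
  show (AddCommGrpCat.uliftZMultiplesAddEquiv _) ((EtCore.constAdj U).homEquiv _ _
      ((EtShriek.extZeroAdj j).homEquiv _ _ (φ ≫ g))) = _
  erw [(EtShriek.extZeroAdj j).homEquiv_naturality_right, (EtCore.constAdj U).homEquiv_naturality_right]
  rfl

theorem hom_ext_sec {G : EtCoh.Ab X} {φ ψ : repZ j ⟶ G} (h : secOf j G φ = secOf j G ψ) : φ = ψ :=
  (secOf j G).injective h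

/-- the universal section -/
noncomputable def univSec : (repZ j).obj.obj (op (objU j)) := secOf j _ (𝟙 _)

theorem secOf_eq_app {G : EtCoh.Ab X} (φ : repZ j ⟶ G) :
    secOf j G φ = (φ.hom.app (op (objU j))).hom (univSec j) := by
  conv_lhs => rw [← Category.id_comp φ, secOf_comp]
  rfl

variable (X) in
/-- the unit section of `ℤ` -/
noncomputable def oneSec (W : X.Etale) : (EtCoh.const X ℤ).obj.obj (op W) :=
  ((EtCoh.const X ℤ).obj.map ((EtCore.topIsTerminal X).from W).op).hom
    (((EtCore.constAdj X).unit.app (AddCommGrpCat.of (ULift.{u + 1} ℤ))).hom (ULift.up (1 : ℤ)))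

omit [AlgebraicGeometry.Etale j] [EtShriek.JCont j] in
theorem map_oneSec {W W' : X.Etale} (g : W' ⟶ W) :
    ((EtCoh.const X ℤ).obj.map g.op).hom (oneSec X W) = oneSec X W' := by
  rw [oneSec, oneSec, ← ConcreteCategory.comp_apply, ← Functor.map_comp, ← op_comp]
  rw [(EtCore.topIsTerminal X).hom_ext (g ≫ (EtCore.topIsTerminal X).from W) ((EtCore.topIsTerminal X).from W')]

theorem secOf_repZTo : secOf j _ (repZTo j) = oneSec X (objU j) := by
  have h0 : (EtShriek.extZeroAdj j).homEquiv _ _ (repZTo j) =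
      (EtCore.pullConst j ℤ).inv ≫ (restrPull j).inv.app (EtCoh.const X ℤ) := by
    have h : (shrAdj j).homEquiv _ _ (repZTo j) = (EtCore.pullConst j ℤ).inv := Equiv.apply_symm_apply _ _
    rw [Adjunction.homEquiv_unit] at h ⊢
    rw [← h, shrAdj, Adjunction.ofNatIsoRight_unit]
    simp
  show (AddCommGrpCat.uliftZMultiplesAddEquiv _) ((EtCore.constAdj U).homEquiv _ _
      ((EtShriek.extZeroAdj j).homEquiv _ _ (repZTo j))) = _
  erw [h0, (EtCore.constAdj U).homEquiv_naturality_right, EtMVLib.homEquiv_pullConst_inv]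
  have hu : (EtCoh.pullPushAdj j).unit.app (EtCoh.const X ℤ) ≫
      (EtCoh.push j).map ((restrPull j).inv.app (EtCoh.const X ℤ)) =
    ((compBcAdj j).sheafPushforwardContinuous (E := AddCommGrpCat.{u + 1})
      U.smallEtaleTopology X.smallEtaleTopology).unit.app (EtCoh.const X ℤ) := by
    rw [← Adjunction.unit_leftAdjointUniq_hom_app
      ((compBcAdj j).sheafPushforwardContinuous (E := AddCommGrpCat.{u + 1})
        U.smallEtaleTopology X.smallEtaleTopology) (EtCoh.pullPushAdj j), Category.assoc, ← Functor.map_comp]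
    erw [Iso.hom_inv_id_app, CategoryTheory.Functor.map_id, Category.comp_id]
  have hu2 := congrArg (fun t => (t.hom.app (op (EtCoh.top X))).hom
    (((EtCore.constAdj X).unit.app (AddCommGrpCat.of (ULift.{u + 1} ℤ))).hom (ULift.up (1 : ℤ)))) hu
  have hnat := NatTrans.naturality_apply ((restrPull j).inv.app (EtCoh.const X ℤ)).hom (EtCore.bcTopIso j).inv.op
  rw [EtMVLib.pullSec_app]
  refine Eq.trans (hnat _) ?_
  refine (congrArg (fun t => (((EtShriek.restrAlong j).obj (EtCoh.const X ℤ)).obj.map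
    (EtCore.bcTopIso j).inv.op).hom t) hu2).trans ?_
  show ((EtCoh.const X ℤ).obj.map _).hom (((EtCoh.const X ℤ).obj.map _).hom _) = _
  rw [oneSec, ← ConcreteCategory.comp_apply, ← Functor.map_comp]
  refine congrArg (fun m => ((EtCoh.const X ℤ).obj.map m).hom _) (Quiver.Hom.unop_inj ?_)
  exact (EtCore.topIsTerminal X).hom_ext _ _

theorem repZTo_univSec : ((repZTo j).hom.app (op (objU j))).hom (univSec j) = oneSec X (objU j) := by
  rw [← secOf_eq_app, secOf_repZTo]

/-- A class vanishes on `U` iff it is killed by `j_! ℤ ⟶ ℤ`. -/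
theorem Hpull_eq_zero_iff [PreservesFiniteLimits (EtCoh.pull j)] (F : EtCoh.Ab X) (n : ℕ) (ξ : EtCoh.H X F n) :
    EtCore.Hpull j F n ξ = 0 ↔ (Ext.mk₀ (repZTo j)).comp ξ (zero_add n) = 0 := by
  have := EtFound.extZero_preservesFiniteLimits j
  have : (EtShriek.extZero j).PreservesMonomorphisms := inferInstance
  have h := EtMVLib.hp_eq (EtCoh.pull j) (EtCore.pullConst j ℤ).inv (shrAdj j) F n ξ
  have e : EtCore.Hpull j F n ξ = EtMVLib.adjExtMap (shrAdj j) (EtCoh.const U ℤ) F n
      ((Ext.mk₀ (repZTo j)).comp ξ (zero_add n)) := h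
  rw [e]
  exact map_eq_zero_iff _ (EtMVLib.adjExtMap_bijective (shrAdj j) _ F n).1

end Etale

end Groth.Agent.GalDual
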