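import Groth.Agent.GalDual.EtTransfer
import Mathlib.CategoryTheory.Sites.Over

/-! Trace maps between the sheaves `j_! ℤ` of finite separable extensions of a field. -/

universe u

open CategoryTheory CategoryTheory.Limits AlgebraicGeometry Opposite CategoryTheory.Abelian

namespace Groth.Agent.GalDual

set_option backward.isDefEq.respectTransparency.types false

variable (K : Type u) [Field K]

/-- the map of spectra of a field extension -/
noncomputable abbrev fieldMap (L : Type u) [Field L] [Algebra K L] :
    Spec (CommRingCat.of L) ⟶ Spec (CommRingCat.of K) :=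
  Spec.map (CommRingCat.ofHom (algebraMap K L))

instance etale_fieldMap (L : Type u) [Field L] [Algebra K L] [FiniteDimensional K L]
    [Algebra.IsSeparable K L] : AlgebraicGeometry.Etale (fieldMap K L) := by
  rw [HasRingHomProperty.Spec_iff (P := @AlgebraicGeometry.Etale), CommRingCat.hom_ofHom,
    RingHom.etale_algebraMap]
  have := (Algebra.FormallyEtale.iff_isSeparable K L).2 inferInstance
  exact ⟨inferInstance, (Algebra.FinitePresentation.of_finiteType).1 inferInstance⟩

variable {K}
variable {L M : Type u} [Field L] [Algebra K L] [FiniteDimensional K L] [Algebra.IsSeparable K L]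
  [Field M] [Algebra K M] [FiniteDimensional K M] [Algebra.IsSeparable K M]
variable [EtShriek.JCont (fieldMap K L)] [EtShriek.JCont (fieldMap K M)]

/-- the morphism of etale `K`-schemes of a `K`-embedding -/
noncomputable def objMap (τ : L →ₐ[K] M) : objU (fieldMap K M) ⟶ objU (fieldMap K L) :=
  MorphismProperty.Over.homMk (Spec.map (CommRingCat.ofHom τ.toRingHom)) (by
    show Spec.map (CommRingCat.ofHom τ.toRingHom) ≫ 𝟙 _ ≫ fieldMap K L = 𝟙 _ ≫ fieldMap K M
    rw [Category.id_comp, Category.id_comp, fieldMap, fieldMap, ← Spec.map_comp]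
    congr 2
    ext x
    exact τ.commutes x)

/-- the map of `j_! ℤ` of a `K`-embedding -/
noncomputable def repMap (τ : L →ₐ[K] M) : repZ (fieldMap K M) ⟶ repZ (fieldMap K L) :=
  (secOf (fieldMap K M) _).symm (((repZ (fieldMap K L)).obj.map (objMap τ).op).hom (univSec (fieldMap K L)))

theorem repMap_repZTo (τ : L →ₐ[K] M) : repMap τ ≫ repZTo (fieldMap K L) = repZTo (fieldMap K M) := by
  apply hom_ext_sec
  rw [secOf_comp, repMap, Equiv.apply_symm_apply, secOf_repZTo]
  erw [NatTrans.naturality_apply (repZTo (fieldMap K L)).hom (objMap τ).op]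
  exact (congrArg _ (repZTo_univSec _)).trans (map_oneSec (objMap τ))

theorem sheaf_amalgamate {X : Scheme.{u}} (F : EtCoh.Ab X) {U V : X.Etale} (π : V ⟶ U)
    (hπ : Function.Surjective π.left.base) (s : F.obj.obj (op V))
    (hs : ∀ (W : X.Etale) (a b : W ⟶ V), a ≫ π = b ≫ π → (F.obj.map a.op).hom s = (F.obj.map b.op).hom s) :
    ∃ t : F.obj.obj (op U), (F.obj.map π.op).hom t = s := by
  have hF : Presieve.IsSheaf X.smallEtaleTopology (F.obj ⋙ forget AddCommGrpCat.{u + 1}) :=
    (isSheaf_iff_isSheaf_of_type _ _).1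
      ((Presheaf.isSheaf_iff_isSheaf_forget _ _ (forget AddCommGrpCat.{u + 1})).1 F.property)
  have hR : Sieve.generate (Presieve.singleton π) ∈ X.smallEtaleTopology U := by
    rw [EtFound.mem_topology_iff]
    intro x
    obtain ⟨v, hv⟩ := hπ x
    exact ⟨V, π, v, Sieve.le_generate _ _ _ (Presieve.singleton_self π), hv⟩
  have h := hF _ hR
  rw [← Presieve.isSheafFor_iff_generate, Presieve.isSheafFor_singleton] at h
  obtain ⟨t, ht, -⟩ := h s (fun {W} a b e => hs W a b e)
  exact ⟨t, ht⟩

theorem eq_of_germs {X : Scheme.{u}} (F : EtCoh.Ab X) {U : X.Etale} (s t : ToType (F.obj.obj (op U)))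
    (h : ∀ (Ω : Type u) (_ : Field Ω) (_ : IsSepClosed Ω) (ξ : Spec (CommRingCat.of Ω) ⟶ X)
      (u : (Scheme.pointSmallEtale ξ).fiber.obj U),
      (Scheme.pointSmallEtale ξ).toPresheafFiber U u F.obj s =
        (Scheme.pointSmallEtale ξ).toPresheafFiber U u F.obj t) : s = t := by
  have hF : Presieve.IsSheaf X.smallEtaleTopology (F.obj ⋙ forget AddCommGrpCat.{u + 1}) :=
    (isSheaf_iff_isSheaf_of_type _ _).1
      ((Presheaf.isSheaf_iff_isSheaf_forget _ _ (forget AddCommGrpCat.{u + 1})).1 F.property)
  exact (hF.isSeparated _ (EtFound.equalizerSieve_mem_of_germs F.obj U s t h)).ext fun W f hf => hf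

variable {E : Type u} [Field E] [Algebra K E] [FiniteDimensional K E] [Algebra.IsSeparable K E]
  [EtShriek.JCont (fieldMap K E)] [Algebra E L] [IsScalarTower K E L]

theorem exists_trace_sec [Algebra E M] [IsScalarTower K E M] (hsplit : Normal E M)
    (ι : L →ₐ[E] M) :
    ∃ t : (repZ (fieldMap K L)).obj.obj (op (objU (fieldMap K E))),
      ((repZTo (fieldMap K L)).hom.app (op (objU (fieldMap K E)))).hom t =
        Module.finrank E L • oneSec _ (objU (fieldMap K E)) := by
  have : FiniteDimensional E L := FiniteDimensional.right K E L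
  have : Algebra.IsSeparable E L := Algebra.isSeparable_tower_top_of_isSeparable K E L
  have hcard : Fintype.card (L →ₐ[E] M) = Module.finrank E L := by
    refine AlgHom.card_of_splits E L M fun x => ?_
    have h := hsplit.splits (ι x)
    rwa [minpoly.algHom_eq ι ι.injective] at h
  let π : objU (fieldMap K M) ⟶ objU (fieldMap K E) := objMap (IsScalarTower.toAlgHom K E M)
  let g : (L →ₐ[E] M) → (objU (fieldMap K M) ⟶ objU (fieldMap K L)) := fun τ => objMap (τ.restrictScalars K)
  let u := univSec (fieldMap K L)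
  let P := repZ (fieldMap K L)
  let S : P.obj.obj (op (objU (fieldMap K M))) := ∑ τ : L →ₐ[E] M, (P.obj.map (g τ).op).hom u
  obtain ⟨t, ht⟩ := sheaf_amalgamate P π
    (fun _ => ⟨(default : Spec (CommRingCat.of M)), Subsingleton.elim (α := ↥(Spec (CommRingCat.of E))) _ _⟩) S
    (by
      intro W a b hab
      refine eq_of_germs P _ _ fun Ω _ _ ξ w => ?_
      let p := Scheme.pointSmallEtale ξ
      simp only [S, map_sum]
      have key : ∀ (c : W ⟶ objU (fieldMap K M)) (τ : L →ₐ[E] M),
          p.toPresheafFiber W w P.obj ((P.obj.map c.op).hom ((P.obj.map (g τ).op).hom u)) =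
            p.toPresheafFiber _ (p.fiber.map (g τ) (p.fiber.map c w)) P.obj u := by
        intro c τ
        exact (p.toPresheafFiber_w_apply c w P.obj _).trans (p.toPresheafFiber_w_apply (g τ) _ P.obj _)
      refine (Finset.sum_congr rfl fun τ _ => key a τ).trans (Eq.trans ?_ (Finset.sum_congr rfl fun τ _ => key b τ).symm)
      let za := p.fiber.map a w
      let zb := p.fiber.map b w
      let α := Spec.preimage (za.left : Spec (CommRingCat.of Ω) ⟶ Spec (CommRingCat.of M))
      let β := Spec.preimage (zb.left : Spec (CommRingCat.of Ω) ⟶ Spec (CommRingCat.of M))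
      have hres : CommRingCat.ofHom (algebraMap E M) ≫ α = CommRingCat.ofHom (algebraMap E M) ≫ β := by
        apply Spec.map_injective
        rw [Spec.map_comp, Spec.map_comp, Spec.map_preimage, Spec.map_preimage]
        show ((w.left : Spec (CommRingCat.of Ω) ⟶ W.left) ≫ a.left) ≫ π.left =
          ((w.left : Spec (CommRingCat.of Ω) ⟶ W.left) ≫ b.left) ≫ π.left
        rw [Category.assoc, Category.assoc]
        exact congrArg (fun f => (w.left : Spec (CommRingCat.of Ω) ⟶ W.left) ≫ f.left) hab
      let _ : Algebra E Ω := (α.hom.comp (algebraMap E M)).toAlgebra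
      let αₐ : M →ₐ[E] Ω := { α.hom with commutes' := fun x => rfl }
      let βₐ : M →ₐ[E] Ω := { β.hom with commutes' := fun x => (congrArg (fun f => f.hom x) hres).symm }
      have hbij : ∀ γ : M →ₐ[E] Ω, Function.Bijective (fun τ : L →ₐ[E] M => γ.comp τ) := by
        intro γ
        have hinj : Function.Injective (fun τ : L →ₐ[E] M => γ.comp τ) := fun x y hxy =>
          AlgHom.ext fun z => γ.injective (AlgHom.congr_fun hxy z)
        refine (Fintype.bijective_iff_injective_and_card _).2 ⟨hinj, le_antisymm (Fintype.card_le_of_injective _ hinj) ?_⟩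
        rw [hcard, Fintype.card_eq_nat_card]
        exact card_algHom_le_finrank E L Ω
      let e : (L →ₐ[E] M) ≃ (L →ₐ[E] M) :=
        (Equiv.ofBijective _ (hbij αₐ)).trans (Equiv.ofBijective _ (hbij βₐ)).symm
      have he : ∀ τ, p.fiber.map (g τ) za = p.fiber.map (g (e τ)) zb := by
        intro τ
        have h : βₐ.comp (e τ) = αₐ.comp τ :=
          (Equiv.ofBijective _ (hbij βₐ)).apply_symm_apply ((Equiv.ofBijective _ (hbij αₐ)) τ)
        refine CategoryTheory.Over.OverMorphism.ext ?_
        show (za.left : Spec (CommRingCat.of Ω) ⟶ Spec (CommRingCat.of M)) ≫ Spec.map (CommRingCat.ofHom τ.toRingHom) =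
          (zb.left : Spec (CommRingCat.of Ω) ⟶ Spec (CommRingCat.of M)) ≫ Spec.map (CommRingCat.ofHom (e τ).toRingHom)
        rw [← Spec.map_preimage (za.left : Spec (CommRingCat.of Ω) ⟶ Spec (CommRingCat.of M)),
          ← Spec.map_preimage (zb.left : Spec (CommRingCat.of Ω) ⟶ Spec (CommRingCat.of M))]
        refine (Spec.map_comp _ _).symm.trans (Eq.trans (congrArg Spec.map ?_) (Spec.map_comp _ _))
        ext x
        exact (AlgHom.congr_fun h x).symm
      exact Fintype.sum_equiv e _ _ fun τ => congrArg (fun z => p.toPresheafFiber _ z P.obj u) (he τ))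
  refine ⟨t, ?_⟩
  let G := EtCoh.const (Spec (CommRingCat.of K)) ℤ
  have hinj : Function.Injective (G.obj.map π.op).hom := by
    intro x y hxy
    have hR : Sieve.generate (Presieve.singleton π) ∈
        (Spec (CommRingCat.of K)).smallEtaleTopology (objU (fieldMap K E)) := by
      rw [EtFound.mem_topology_iff]
      intro z
      exact ⟨_, π, (default : Spec (CommRingCat.of M)), Sieve.le_generate _ _ _ (Presieve.singleton_self π),
        Subsingleton.elim (α := ↥(Spec (CommRingCat.of E))) _ _⟩
    have hF : Presieve.IsSheaf (Spec (CommRingCat.of K)).smallEtaleTopology (G.obj ⋙ forget AddCommGrpCat.{u + 1}) :=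
      (isSheaf_iff_isSheaf_of_type _ _).1
        ((Presheaf.isSheaf_iff_isSheaf_forget _ _ (forget AddCommGrpCat.{u + 1})).1 G.property)
    refine (hF.isSeparated _ hR).ext fun W f hf => ?_
    obtain ⟨V, a, b, hb, rfl⟩ := hf
    cases hb
    show (G.obj.map (a ≫ π).op).hom x = (G.obj.map (a ≫ π).op).hom y
    rw [op_comp, Functor.map_comp]
    exact congrArg (G.obj.map a.op).hom hxy
  apply hinj
  rw [map_nsmul, map_oneSec]
  refine (NatTrans.naturality_apply (repZTo (fieldMap K L)).hom π.op t).symm.trans ?_
  refine (congrArg _ ht).trans ?_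
  rw [map_sum, ← hcard, ← Finset.card_univ, ← Finset.sum_const]
  refine Finset.sum_congr rfl fun τ _ => ?_
  exact (NatTrans.naturality_apply (repZTo (fieldMap K L)).hom (g τ).op u).trans
    ((congrArg _ (repZTo_univSec _)).trans (map_oneSec (g τ)))

end Groth.Agent.GalDual
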