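import Groth.Agent.GalDual.Torsion
import Mathlib.GroupTheory.Sylow
import Mathlib.FieldTheory.Galois.Basic
import Mathlib.Data.Rat.Lemmas
import Mathlib.CategoryTheory.Sites.ConstantSheaf

/-! Consequences: uniquely divisible sheaves are acyclic on fields, `H^i(ℤ) = H^{i-1}(ℚ/ℤ)`,
period and index, restriction of torsion sheaves. -/

universe u

open CategoryTheory CategoryTheory.Limits AlgebraicGeometry Opposite CategoryTheory.Abelian

namespace Groth.Agent.GalDual

set_option backward.isDefEq.respectTransparency.types false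

variable {K : Type u} [Field K] {F : EtCoh.Ab (Spec (CommRingCat.of K))}

theorem subsingleton_H_of_uniquely_divisible (hdiv : ∀ n : ℕ, 0 < n → IsIso (n • 𝟙 F)) {i : ℕ} (hi : 0 < i) :
    Subsingleton (EtCoh.H (Spec (CommRingCat.of K)) F i) := by
  refine subsingleton_of_forall_eq 0 fun x => ?_
  obtain ⟨d, hd, hdx⟩ := exists_pos_nsmul_eq_zero hi x
  have := hdiv d hd
  have e : ∀ m : ℕ, x.comp (Ext.mk₀ (m • 𝟙 F)) (add_zero i) = m • x := by
    intro m
    induction m with
    | zero => simp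
    | succ m ih => rw [succ_nsmul, succ_nsmul, Ext.mk₀_add, Ext.comp_add, ih, Ext.comp_mk₀_id]
  have h := congrArg (fun z => z.comp (Ext.mk₀ (inv (d • 𝟙 F))) (add_zero i)) ((e d).trans hdx)
  rw [Ext.comp_assoc_of_second_deg_zero, Ext.mk₀_comp_mk₀, IsIso.hom_inv_id, Ext.comp_mk₀_id,
    Ext.zero_comp] at h
  exact h

theorem eq_zero_of_coprime_nsmul {A : Type*} [AddMonoid A] {x : A} {a b : ℕ} (ha : a • x = 0) (hb : b • x = 0)
    (hab : Nat.Coprime a b) : x = 0 := by
  have h : addOrderOf x ∣ Nat.gcd a b :=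
    Nat.dvd_gcd (addOrderOf_dvd_of_nsmul_eq_zero ha) (addOrderOf_dvd_of_nsmul_eq_zero hb)
  rw [hab] at h
  exact AddMonoid.addOrderOf_eq_one_iff.1 (Nat.dvd_one.1 h)

theorem exists_dies_finrank_not_dvd {n : ℕ} (α : EtCoh.H (Spec (CommRingCat.of K)) F n) (L : Type u) [Field L]
    [Algebra K L] [FiniteDimensional K L] [Algebra.IsSeparable K L] (h : Dies K L α) (p : ℕ) (hp : p.Prime)
    (hpα : ¬ p ∣ addOrderOf α) :
    ∃ (L' : Type u) (_ : Field L') (_ : Algebra K L') (_ : FiniteDimensional K L') (_ : Algebra.IsSeparable K L'),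
      ¬ p ∣ Module.finrank K L' ∧ Dies K L' α := by
  have : Fact p.Prime := ⟨hp⟩
  let M := IntermediateField.normalClosure K L (SeparableClosure L)
  have : IsSepClosure K (SeparableClosure L) := ⟨inferInstance, Algebra.IsSeparable.trans K L _⟩
  have : IsGalois K (SeparableClosure L) := IsSepClosure.isGalois
  let ι : L →ₐ[K] M := (IsScalarTower.toAlgHom K L (SeparableClosure L)).codRestrict M.toSubalgebra
    fun x => AlgHom.fieldRange_le_normalClosure (IsScalarTower.toAlgHom K L (SeparableClosure L)) ⟨x, rfl⟩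
  let P : Sylow p (M ≃ₐ[K] M) := default
  let L' := IntermediateField.fixedField (P : Subgroup (M ≃ₐ[K] M))
  have hindex : Module.finrank K L' = (P : Subgroup (M ≃ₐ[K] M)).index := by
    rw [IntermediateField.finrank_eq_fixingSubgroup_index, IntermediateField.fixingSubgroup_fixedField]
  refine ⟨L', inferInstance, inferInstance, inferInstance, inferInstance, ?_, ?_⟩
  · rw [hindex]
    exact P.not_dvd_index
  have hM : Dies K L' (Module.finrank L' M • α) := (h.of_algHom ι).nsmul L' M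
  have hcard : Module.finrank L' M = Nat.card (P : Subgroup (M ≃ₐ[K] M)) :=
    IntermediateField.finrank_fixedField_eq_card _
  obtain ⟨k, hk⟩ := IsPGroup.iff_card.1 P.isPGroup'
  rw [hcard, hk] at hM
  have hpos : 0 < addOrderOf α := by
    refine IsOfFinAddOrder.addOrderOf_pos ?_
    exact isOfFinAddOrder_iff_nsmul_eq_zero.2 ⟨_, Module.finrank_pos, h.finrank_nsmul L⟩
  have hcop : Nat.Coprime (p ^ k) (addOrderOf α) := (hp.coprime_iff_not_dvd.2 hpα).pow_left k
  by_cases h1 : addOrderOf α = 1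
  · rw [AddMonoid.addOrderOf_eq_one_iff.1 h1]
    unfold Dies
    exact Ext.comp_zero _ _ _ _ (zero_add n)
  obtain ⟨c, -, hc⟩ := Nat.exists_mul_mod_eq_one_of_coprime hcop (by omega)
  have h2 := hM.nsmul_eq_zero L' c
  rw [← mul_nsmul, ← mod_addOrderOf_nsmul α (p ^ k * c), hc, one_nsmul] at h2
  exact h2

theorem isTorsion_pull {U X : Scheme.{u}} (j : U ⟶ X) [hj : AlgebraicGeometry.Etale j] {F : EtCoh.Ab X}
    (hF : EtCoh.IsTorsion F) : EtCoh.IsTorsion ((EtCoh.pull j).obj F) := by
  have := jcont j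
  intro W s x
  let e := (restrPull j).app F
  obtain ⟨V, g, ⟨v, hv⟩, hfin⟩ := hF ((EtShriek.compEtale j).obj W) ((e.inv.hom.app (op W)).hom s) x
  let W' := (EtShriek.compEtaleLift j g).1
  let i := (EtShriek.compEtaleLift j g).2
  let a : W' ⟶ W := MorphismProperty.Over.homMk (i.hom.left ≫ g.left)
    ((Category.assoc _ _ _).trans (Category.id_comp _))
  have ha : (EtShriek.compEtale j).map a = i.hom ≫ g := MorphismProperty.Over.Hom.ext rfl
  have hi : Function.Surjective i.hom.left.base := by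
    intro y
    refine ⟨i.inv.left.base y, ?_⟩
    rw [← Scheme.Hom.comp_apply]
    have h := congrArg (fun m => m.left) i.inv_hom_id
    exact congrArg (fun m : V.left ⟶ V.left => m y) h
  obtain ⟨v', rfl⟩ := hi v
  refine ⟨W', a, ⟨v', hv⟩, ?_⟩
  have h2 : IsOfFinAddOrder ((((EtShriek.restrAlong j).obj F).obj.map a.op).hom ((e.inv.hom.app (op W)).hom s)) := by
    show IsOfFinAddOrder ((F.obj.map ((EtShriek.compEtale j).map a).op).hom _)
    rw [ha, op_comp, Functor.map_comp]
    exact AddMonoidHom.isOfFinAddOrder (F.obj.map i.hom.op).hom hfin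
  have h3 := AddMonoidHom.isOfFinAddOrder ((e.hom.hom.app (op W')).hom) h2
  have h4 : (e.hom.hom.app (op W')).hom ((((EtShriek.restrAlong j).obj F).obj.map a.op).hom ((e.inv.hom.app (op W)).hom s)) =
      (((EtCoh.pull j).obj F).obj.map a.op).hom s := by
    refine (NatTrans.naturality_apply e.hom.hom a.op _).trans (congrArg _ ?_)
    show ((e.inv ≫ e.hom).hom.app (op W)).hom s = s
    rw [e.inv_hom_id]
    rfl
  rw [h4] at h3
  exact h3

theorem nonempty_H_int_equiv (i : ℕ) (hi : 2 ≤ i) :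
    Nonempty (EtCoh.H (Spec (CommRingCat.of K)) (EtCoh.const (Spec (CommRingCat.of K)) ℤ) i ≃+
      EtCoh.H (Spec (CommRingCat.of K))
        (EtCoh.const (Spec (CommRingCat.of K)) (ℚ ⧸ AddSubgroup.zmultiples (1 : ℚ))) (i - 1)) := by
  obtain ⟨n, rfl⟩ : ∃ n, i = n + 1 + 1 := ⟨i - 2, by omega⟩
  let X := Spec (CommRingCat.of K)
  let C := constantSheaf X.smallEtaleTopology AddCommGrpCat.{u + 1}
  have : PreservesFiniteLimits C :=
    @comp_preservesFiniteLimits _ _ _ _ _ _ _ _ inferInstance inferInstance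
  have : PreservesFiniteColimits C := by
    have : C.IsLeftAdjoint := (EtCore.constAdj X).isLeftAdjoint
    infer_instance
  have : C.Additive := Functor.additive_of_preserves_binary_products _
  let f : ℤ →+ ℚ := Int.castAddHom ℚ
  let dZ : ULift.{u + 1} ℤ →+ ℤ := (AddEquiv.ulift : ULift.{u + 1} ℤ ≃+ ℤ).toAddMonoidHom
  let dQ : ULift.{u + 1} ℚ →+ ℚ := (AddEquiv.ulift : ULift.{u + 1} ℚ ≃+ ℚ).toAddMonoidHom
  let uQ : ℚ →+ ULift.{u + 1} ℚ := (AddEquiv.ulift : ULift.{u + 1} ℚ ≃+ ℚ).symm.toAddMonoidHom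
  let uT : (ℚ ⧸ AddSubgroup.zmultiples (1 : ℚ)) →+ ULift.{u + 1} (ℚ ⧸ AddSubgroup.zmultiples (1 : ℚ)) :=
    (AddEquiv.ulift : ULift.{u + 1} (ℚ ⧸ AddSubgroup.zmultiples (1 : ℚ)) ≃+ _).symm.toAddMonoidHom
  let S : ShortComplex AddCommGrpCat.{u + 1} :=
    ShortComplex.mk
      (AddCommGrpCat.ofHom ((uQ.comp f).comp dZ))
      (AddCommGrpCat.ofHom ((uT.comp (QuotientAddGroup.mk' (AddSubgroup.zmultiples (1 : ℚ)))).comp dQ))
      (AddCommGrpCat.ext fun z => ULift.ext _ _ ((QuotientAddGroup.eq_zero_iff _).2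
        (AddSubgroup.mem_zmultiples_iff.2 ⟨z.down, zsmul_one _⟩)))
  have hS : S.ShortExact :=
    ShortComplex.ShortExact.mk'
      ((ShortComplex.ab_exact_iff S).2 fun x hx => by
        obtain ⟨z, hz⟩ := (QuotientAddGroup.eq_zero_iff _).1 (congrArg ULift.down hx)
        exact ⟨ULift.up z, ULift.ext _ _ (by
          show ((z : ℤ) : ℚ) = x.down
          exact (zsmul_one z).symm.trans hz)⟩)
      ((AddCommGrpCat.mono_iff_injective _).2 fun a b hab =>
        ULift.ext _ _ (Int.cast_injective (congrArg ULift.down hab)))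
      ((AddCommGrpCat.epi_iff_surjective _).2 fun x => by
        obtain ⟨q, hq⟩ := QuotientAddGroup.mk'_surjective (AddSubgroup.zmultiples (1 : ℚ)) x.down
        exact ⟨ULift.up q, ULift.ext _ _ hq⟩)
  have hE := hS.map_of_exact C
  have hQ : ∀ m, 0 < m → Subsingleton (EtCoh.H X (C.obj S.X₂) m) := fun m hm =>
    subsingleton_H_of_uniquely_divisible (fun d hd => by
      rw [← C.map_id, ← Functor.map_nsmul]
      have : IsIso (d • 𝟙 S.X₂) := by
        rw [ConcreteCategory.isIso_iff_bijective]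
        have hdne : (d : ℚ) ≠ 0 := Nat.cast_ne_zero.2 hd.ne'
        constructor
        · intro a b hab
          have h : d • a.down = d • b.down := congrArg ULift.down hab
          rw [nsmul_eq_mul, nsmul_eq_mul] at h
          exact ULift.ext _ _ (mul_left_cancel₀ hdne h)
        · intro a
          refine ⟨ULift.up (a.down / d), ULift.ext _ _ ?_⟩
          show d • (a.down / (d : ℚ)) = a.down
          rw [nsmul_eq_mul, mul_div_cancel₀ _ hdne]
      infer_instance) hm
  let Z := EtCoh.const X ℤ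
  let δ : Ext Z (C.obj S.X₃) (n + 1) →+ Ext Z (C.obj S.X₁) (n + 1 + 1) :=
    hE.extClass.postcomp Z rfl
  have hb : Function.Bijective δ := by
    refine ⟨(injective_iff_map_eq_zero _).2 fun y hy => ?_, fun x => ?_⟩
    · obtain ⟨z, hz⟩ := Ext.covariant_sequence_exact₃ Z hE y rfl hy
      rw [← hz, show z = 0 from (hQ _ (by omega)).elim _ _]
      exact Ext.zero_comp _ _ _ _ (add_zero _)
    · exact Ext.covariant_sequence_exact₁ Z hE x ((hQ _ (by omega)).elim _ _) rfl
  exact ⟨(AddEquiv.ofBijective δ hb).symm⟩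

end Groth.Agent.GalDual
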